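import Cfsg.Agent.Lib.Spor.GLTwoAmalgam.Three.Part0
import Cfsg.Agent.Lib.Spor.GLTwoAmalgam.Three.Part1

/-!
The bound 13: the assembled checks.
-/

set_option autoImplicit false

namespace CfsgLib.Spor.GLTwoAmalgam.Three

open CfsgLib.Spor.TC

theorem steps_ok : cert.SStepsOK 0 4384 :=
  (steps0.append _ steps2500)

def rcodes : List ℕ := [
  0x33000010000320000100221c0000300221a0000300000b0000100000a000010000050000100000400001000009000020000060000200000300001000002000010000010000100000000001,
  0x73000020000720000200005a0000200005b00002000013000020000120000200000c0000300000f00003000007000010000080000100001100002000010000020000190000500001400004,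
  0xc6000030000c70000300221b0000100221d000010021ce000060021fc0000700000e0000200000d000020021cc000030021cd0000300005900009000054000080000510000300005000003,
  0x11d0000400011c0000400221600009002238000080000eb000040000ea000040021bc000060022140000700004a00005000016000050000e9000040000e8000040000150000200004400005,
  0x14d0000500014c000050021be000080022130000900004800005000049000050021d50000700222f000060000170000400004b0000400004600005000047000050000450000400001800002,
  0x2a5000060002a40000600220600007002204000070021de000070021cf0000300222e000050021bd0000400025f00008000193000090021b80000b0021fa0000d0022290000600222800006,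
  0x404000070004050000700220500006002207000060021fd000030021df00006002215000040021d4000050021c9000090021cb000080021d20000a0021db0000c0022080000700220900007,
  0x55a0000800055b00008002239000040021bf000050021f20000d0005370000c00009800009000056000090021ca0000700025e00006000055000030000840000900053d0000c0021ea0000d,
  0x56a0000900056b0000900221200005002217000040000900000b0004f50000a0000570000800009900008000192000060021c80000700008500008000058000030005030000b0000860000a,
  0x6010000a0006000000a0021e50000b0021d00000d0004f4000090005050000b0021e10000d0005090000c0021b50000b0021b70000c0004eb0000c0021d300007000087000090004ec0000b,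
  0x65d0000b00065c0000b0022320000c0021e40000a0005040000a000091000090000f30000c0021ee0000d00221f0000d0021b40000a0022250000d0021b9000060004ed0000a00050200009,
  0x9010000c0009000000c0021b00000d0022330000b000536000080021e30000d0005080000a0000f20000b0021b60000a00223e0000d0021da000070004ea0000a0021e80000d00053c00008,
  0xbcd0000d000bcc0000d0021d10000a0021b10000c0021e20000c0021f3000080021ef0000b0021e00000a00223f0000c00221e0000b0021fb000060022240000b0021eb000080021e90000c]

set_option maxRecDepth 100000 in
theorem rows_ok : cert.SRowsOK 4384 13 0 13 :=
  Cert.SRowsOK.of_check _ (codes := rcodes) (by decide +kernel)

end CfsgLib.Spor.GLTwoAmalgam.Three
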